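import Cfsg.Agent.H430.Om7.KD
import Cfsg.Agent.H830.Rg.HexL

/-!
# S3691, `Ω₇(q)`: the reducible factor fixes a singular point (helper830)

* `redW` : the action on a complement modulo a fixed vector
* `sing_fix` : the factor fixes a singular vector
* `KD.sing` : the factor fixes a singular point
-/

set_option autoImplicit false
set_option linter.unusedSectionVars false

namespace Cfsg.Agent.H830.Om7

open Module QuadraticMap Cfsg Cfsg.Agent.LieClassical.OrthCore Cfsg.Agent.LieClassical.OrthTrans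
  Cfsg.Agent.H884.El Cfsg.Agent.H955 Cfsg.Agent.H954.TSing Cfsg.Agent.H830.Hex Cfsg.Agent.H430.Om7
open Cfsg.Agent.H951 (fx cm Inv mem_fx mem_cm)
open Cfsg.Agent.H916.QuadLemmas (cp mem_cp proj_mem_cp nondegOn_cp)
open Cfsg.Agent.H883.Root (Has has_self)
open Cfsg.Agent.H883.Sub (NondegOn)

section redW

variable {F V : Type*} [Field F] [AddCommGroup V] [Module F V] {W : Submodule F V} {π : V →ₗ[F] W} {v : V}
  {K : Subgroup (V ≃ₗ[F] V)}

/-- the action on `W` modulo `v` -/
def redWEnd (hv : π v = 0) (hπ : ∀ w : W, π (w : V) = w) (hK : ∀ g ∈ K, g v = v)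
    (hW : ∀ g ∈ K, ∀ w : W, ∃ c : F, g (w : V) = (π (g (w : V)) : V) + c • v) : K →* Module.End F W where
  toFun g := π.comp (((g : V ≃ₗ[F] V) : V →ₗ[F] V).comp W.subtype)
  map_one' := by
    ext w
    exact congrArg Subtype.val (hπ w)
  map_mul' g h := by
    ext w
    show (π ((g : V ≃ₗ[F] V) ((h : V ≃ₗ[F] V) (w : V))) : V) = (π ((g : V ≃ₗ[F] V) (π ((h : V ≃ₗ[F] V) (w : V)) : V)) : V)
    obtain ⟨c, hc⟩ := hW h h.2 w
    conv_lhs => rw [hc]
    rw [map_add, map_smul, hK _ g.2, map_add, map_smul, hv, smul_zero, add_zero]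

/-- the action on `W` modulo `v` -/
def redW (hv : π v = 0) (hπ : ∀ w : W, π (w : V) = w) (hK : ∀ g ∈ K, g v = v)
    (hW : ∀ g ∈ K, ∀ w : W, ∃ c : F, g (w : V) = (π (g (w : V)) : V) + c • v) : K →* (W ≃ₗ[F] W) :=
  (LinearMap.GeneralLinearGroup.generalLinearEquiv F W).toMonoidHom.comp (redWEnd hv hπ hK hW).toHomUnits

theorem redW_apply (hv : π v = 0) (hπ : ∀ w : W, π (w : V) = w) (hK : ∀ g ∈ K, g v = v)
    (hW : ∀ g ∈ K, ∀ w : W, ∃ c : F, g (w : V) = (π (g (w : V)) : V) + c • v) (g : K) (w : W) :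
    redW hv hπ hK hW g w = π ((g : V ≃ₗ[F] V) (w : V)) := rfl

end redW

section

variable {F V : Type*} [Field F] [AddCommGroup V] [Module F V] {Q : QuadraticForm F V} {K : Subgroup (V ≃ₗ[F] V)} {v v' : V}

/-- the vectors `w` of `⟨v, v'⟩^⊥` with `siegel v w ∈ K` -/
def AV (Q : QuadraticForm F V) (K : Subgroup (V ≃ₗ[F] V)) {v v' : V} (hv : Hyp Q v v') : AddSubgroup V where
  carrier := {x | Has Q K v x ∧ x ∈ cp Q v v'}
  zero_mem' := ⟨by simpa using has_self (H := K) hv.left (0 : F), (cp Q v v').zero_mem⟩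
  add_mem' := fun ha hb => ⟨ha.1.add hb.1, (cp Q v v').add_mem ha.2 hb.2⟩
  neg_mem' := fun ha => ⟨ha.1.neg, (cp Q v v').neg_mem ha.2⟩

theorem card_AV (hv : Hyp Q v v') : Nat.card {w : cp Q v v' // Has Q K v (w : V)} = Nat.card (AV Q K hv) :=
  Nat.card_congr
    { toFun := fun w => ⟨w.1.1, w.2, w.1.2⟩
      invFun := fun w => ⟨⟨w.1, w.2.2⟩, w.2.1⟩
      left_inv := fun _ => rfl
      right_inv := fun _ => rfl }

theorem card_add_pow [Finite F] [FiniteDimensional F V] {p f : ℕ} (hp : p.Prime) (hF : Nat.card F = p ^ f) (A : AddSubgroup V) :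
    ∃ i, Nat.card A = p ^ i := by
  have h1 : Nat.card V = p ^ (f * finrank F V) := by
    rw [Module.natCard_eq_pow_finrank (K := F), hF, pow_mul]
  have h2 : Nat.card A ∣ p ^ (f * finrank F V) := by
    rw [← h1]
    exact A.card_addSubgroup_dvd_card
  obtain ⟨i, -, hi⟩ := (Nat.dvd_prime_pow hp).1 h2
  exact ⟨i, hi⟩

theorem eq_proj (v v' x : V) : x = proj Q v v' x + polar Q v' x • v + polar Q v x • v' := by
  simp only [LieClassical.OrthTrans.proj]
  module

end

variable {F : Type} [Field F] [Fintype F] {V : Type} [AddCommGroup V] [Module F V] [FiniteDimensional F V]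
  {Q : QuadraticForm F V} {K : Subgroup (V ≃ₗ[F] V)} {p f r a : ℕ} {y : V ≃ₗ[F] V}

theorem prime_ne (D : KD Q K p f r a y) : r ≠ p := by
  rintro rfl
  exact D.pp.not_dvd (by have := D.pos; omega) dvd_rfl

/-- the vectors `w` with `siegel v w ∈ K` are fixed by `y` -/
theorem mem_fx_of_has (D : KD Q K p f r a y) {v v' : V} (hfix : ∀ g ∈ K, g v = v) (hv : Hyp Q v v')
    (hv' : v' ∈ fx (y : Module.End F V)) {w : V} (hwC : w ∈ cp Q v v') (hw : Has Q K v w) : w ∈ fx (y : Module.End F V) := by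
  have hfin : Finite V := Module.finite_of_finite F
  have hpr := Fact.mk D.pp.prime
  by_contra hn
  have hyv : y v = v := hfix y D.mem
  have hyv' : y v' = v' := mem_fx.1 hv'
  have hyC : ∀ x ∈ cp Q v v', y x ∈ cp Q v v' := by
    intro x hx
    obtain ⟨h1, h2⟩ := mem_cp.1 hx
    refine mem_cp.2 ⟨?_, ?_⟩
    · rw [← hyv, polar_map (D.le D.mem)]; exact h1
    · rw [← hyv', polar_map (D.le D.mem)]; exact h2
  have hyA : ∀ x, Has Q K v x → Has Q K v (y x) := fun x hx => (hx.map (D.le D.mem) D.mem).congr hyv rfl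
  obtain ⟨S, hS⟩ : ∃ S : AddSubgroup V, S = AV Q K hv ⊓ (cm (y : Module.End F V)).toAddSubgroup := ⟨_, rfl⟩
  have hSm : ∀ x, x ∈ S ↔ (Has Q K v x ∧ x ∈ cp Q v v') ∧ x ∈ cm (y : Module.End F V) := by
    intro x
    rw [hS]
    exact Iff.rfl
  obtain ⟨j, hj⟩ := card_add_pow (F := F) D.prime D.card S
  have hdis : ∀ x, x ∈ cm (y : Module.End F V) → (y : Module.End F V) x = x → x = 0 := by
    intro x hx hx'
    have h1 : x ∈ fx (y : Module.End F V) ⊓ cm (y : Module.End F V) := ⟨mem_fx.2 hx', hx⟩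
    rw [(H951.isCompl_fx_cm D.iso.ne0 D.iso.pow).inf_eq_bot] at h1
    exact (Submodule.mem_bot F).1 h1
  have h1 := H951.card_modEq D.iso.pow (S : Set V) (by
    intro x hx
    obtain ⟨⟨h1, h2⟩, h3⟩ := (hSm x).1 hx
    exact (hSm _).2 ⟨⟨hyA x h1, hyC x h2⟩, H951.inv_cm x h3⟩)
  have h2 : Nat.card {x : V // x ∈ (S : Set V) ∧ (y : Module.End F V) x = x} = 1 := by
    rw [Nat.card_eq_one_iff_unique]
    refine ⟨⟨fun a b => ?_⟩, ⟨⟨0, S.zero_mem, map_zero _⟩⟩⟩
    apply Subtype.ext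
    rw [hdis a ((hSm _).1 a.2.1).2 a.2.2, hdis b ((hSm _).1 b.2.1).2 b.2.2]
  rw [h2] at h1
  have h3 : Nat.card (S : Set V) = p ^ j := hj
  rw [h3] at h1
  have h4 : r ∣ p ^ j - 1 := (Nat.modEq_iff_dvd' (Nat.one_le_pow _ _ D.prime.pos)).1 h1.symm
  have h5 : f * 4 ∣ j := (D.pp.dvd_iff D.prime.one_le j).1 h4
  have h6 : j ≠ 0 := by
    rintro rfl
    rw [pow_zero] at hj
    have h7 : y w - w ∈ S := by
      refine (hSm _).2 ⟨⟨(hyA w hw).sub hw, (cp Q v v').sub_mem (hyC w hwC) hwC⟩, mem_cm.2 ⟨w, rfl⟩⟩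
    have h8 : S = ⊥ := AddSubgroup.card_eq_one.1 hj
    rw [h8, AddSubgroup.mem_bot] at h7
    exact hn (mem_fx.2 (sub_eq_zero.1 h7))
  have h7 : 4 * f ≤ j := by
    have := Nat.le_of_dvd (Nat.pos_of_ne_zero h6) h5
    omega
  have h8 : p ^ j ∣ Nat.card K := by
    rw [card_red D.nd hv (fun g hg => ⟨D.le hg, hfix g hg⟩), card_AV hv, ← hj]
    exact Dvd.dvd.mul_right (AddSubgroup.card_dvd_of_le (by rw [hS]; exact inf_le_left)) _
  have h9 : j ≤ (Nat.card K).factorization p :=
    (D.prime.pow_dvd_iff_le_factorization Nat.card_pos.ne').1 h8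
  have h10 := D.hi
  have h11 := D.pos
  omega

/-- the dimension of `fx y ∩ ⟨v, v'⟩^⊥` is 1 -/
theorem line_fx (D : KD Q K p f r a y) {v v' z : V} (hv : Hyp Q v v') (hvf : v ∈ fx (y : Module.End F V))
    (hv' : v' ∈ fx (y : Module.End F V)) (hzC : z ∈ cp Q v v') (hzf : z ∈ fx (y : Module.End F V)) (hz0 : z ≠ 0) {x : V}
    (hxC : x ∈ cp Q v v') (hxf : x ∈ fx (y : Module.End F V)) : ∃ a : F, x = a • z := by
  have h1 : Hyp (res Q (fx (y : Module.End F V))) ⟨v, hvf⟩ ⟨v', hv'⟩ := ⟨hv.left, hv.right, hv.pair⟩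
  have h2 := finrank_cp_eq D.nd_fx h1
  rw [D.fx3] at h2
  have h3 : finrank F (cp (res Q (fx (y : Module.End F V))) ⟨v, hvf⟩ ⟨v', hv'⟩) = 1 := by omega
  have hz : (⟨z, hzf⟩ : fx (y : Module.End F V)) ∈ cp (res Q (fx (y : Module.End F V))) ⟨v, hvf⟩ ⟨v', hv'⟩ :=
    mem_cp.2 ⟨(mem_cp.1 hzC).1, (mem_cp.1 hzC).2⟩
  have hx : (⟨x, hxf⟩ : fx (y : Module.End F V)) ∈ cp (res Q (fx (y : Module.End F V))) ⟨v, hvf⟩ ⟨v', hv'⟩ :=
    mem_cp.2 ⟨(mem_cp.1 hxC).1, (mem_cp.1 hxC).2⟩
  obtain ⟨c, hc⟩ := (finrank_eq_one_iff_of_nonzero' (⟨_, hz⟩ : cp (res Q (fx (y : Module.End F V))) ⟨v, hvf⟩ ⟨v', hv'⟩)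
    (fun h => hz0 (congrArg (fun t => ((t : fx (y : Module.End F V)) : V)) (congrArg Subtype.val h)))).1 h3 ⟨_, hx⟩
  exact ⟨c, (congrArg (fun t => ((t : fx (y : Module.End F V)) : V)) (congrArg Subtype.val hc)).symm⟩

/-- **the factor fixes a singular vector** -/
theorem sing_fix (D : KD Q K p f r a y) (hG : Good Q) {v : V} (hv0 : v ≠ 0) (hv : Q v = 0) (hfix : ∀ g ∈ K, g v = v)
    {H : Subgroup (V ≃ₗ[F] V)} (hH : H ≤ O Q) (hc : Nat.card F ^ 6 ∣ Nat.card H)
    (hdis : ∀ t ∈ E Q, ∀ h ∈ H, t * h * t⁻¹ ∈ K → h = 1) : False := by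
  have hfin : Finite V := Module.finite_of_finite F
  have hpr := Fact.mk D.prime
  have hprr := Fact.mk D.pp.prime
  have hf1 := D.pos
  have hK := D.le
  have hvf : v ∈ fx (y : Module.End F V) := mem_fx.2 (hfix y D.mem)
  have hN : NondegOn Q (fx (y : Module.End F V)) := fun x hx h =>
    congrArg Subtype.val (D.nd_fx ⟨x, hx⟩ (fun z => h z z.2))
  have hNc : NondegOn Q (cm (y : Module.End F V)) := fun x hx h =>
    congrArg Subtype.val (D.nd_cm ⟨x, hx⟩ (fun z => h z z.2))
  obtain ⟨v', hv'f, hvv⟩ := exists_partner' hN hvf hv hv0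
  have hKS : K ≤ StV Q v := fun g hg => ⟨hK hg, hfix g hg⟩
  have hfx : ∀ w ∈ cp Q v v', Has Q K v w → w ∈ fx (y : Module.End F V) := fun w h1 h2 => mem_fx_of_has D hfix hvv hv'f h1 h2
  -- orders
  have hcr := card_red D.nd hvv hKS
  obtain ⟨i, hi⟩ := card_add_pow (F := F) D.prime D.card (AV Q K hvv)
  rw [card_AV hvv, hi] at hcr
  have hcop : Nat.Coprime r p := (Nat.coprime_primes D.pp.prime D.prime).2 (prime_ne D)
  have h5 : finrank F (cp Q v v') = 5 := by
    have := finrank_cp_eq D.nd hvv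
    have := D.dim
    omega
  have hfac : (Nat.card K).factorization p = i + (Nat.card (redG hvv K)).factorization p := by
    rw [hcr, Nat.factorization_mul (pow_ne_zero _ D.prime.ne_zero) Nat.card_pos.ne', Finsupp.add_apply,
      Nat.Prime.factorization_pow D.prime, Finsupp.single_eq_same]
  have hdv : r ^ a ∣ Nat.card (redG hvv K) := by
    have h1 := D.dvd
    rw [hcr] at h1
    exact Nat.Coprime.dvd_of_dvd_mul_left (Nat.Coprime.pow _ _ hcop) h1
  have hi1 : 1 ≤ i := by
    have h1 := D.boxes.five (nondegOn_cp D.nd hvv).res h5 (redG_le hvv (P := K)) D.pp D.big hdv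
    have h2 := D.lo
    have h3 := D.hi
    omega
  -- the vector z
  obtain ⟨z, hzC, hzK, hz0⟩ : ∃ z ∈ cp Q v v', Has Q K v z ∧ z ≠ 0 := by
    have h1 : 1 < Nat.card (AV Q K hvv) := by
      rw [hi]
      exact Nat.one_lt_pow (by omega) D.prime.one_lt
    have h2 : Nontrivial (AV Q K hvv) := (Finite.one_lt_card_iff_nontrivial).1 h1
    obtain ⟨z, hz⟩ := exists_ne (0 : AV Q K hvv)
    exact ⟨z, z.2.2, z.2.1, fun h => hz (Subtype.ext h)⟩
  have hzf := hfx z hzC hzK
  have hline : ∀ x ∈ cp Q v v', x ∈ fx (y : Module.End F V) → ∃ a : F, x = a • z := fun x h1 h2 =>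
    line_fx D hvv hvf hv'f hzC hzf hz0 h1 h2
  have hzv := (mem_cp.1 hzC).1
  have hzv' := (mem_cp.1 hzC).2
  have hdec : ∀ x ∈ fx (y : Module.End F V), ∃ a : F, x = a • z + polar Q v' x • v + polar Q v x • v' := by
    intro x hx
    have h1 : proj Q v v' x ∈ fx (y : Module.End F V) :=
      Submodule.sub_mem _ (Submodule.sub_mem _ hx (Submodule.smul_mem _ _ hvf)) (Submodule.smul_mem _ _ hv'f)
    obtain ⟨a, ha⟩ := hline _ (proj_mem_cp hvv x) h1
    refine ⟨a, ?_⟩
    rw [← ha]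
    exact eq_proj v v' x
  have hQz : Q z ≠ 0 := by
    intro h0
    apply hz0
    refine hN z hzf fun x hx => ?_
    obtain ⟨a, ha⟩ := hdec x hx
    rw [ha, polar_add_right, polar_add_right, polar_smul_right, polar_smul_right, polar_smul_right, polar_self_of_sing h0,
      polar_comm Q z v, hzv, polar_comm Q z v', hzv']
    simp
  -- K fixes the plane ⟨v, z⟩
  have fixz : ∀ k ∈ K, ∃ a b : F, k z = a • z + b • v := by
    intro k hk
    have h1 : Has Q K v (k z) := (hzK.map (hK hk) hk).congr (hfix k hk) rfl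
    have h2 : k z = proj Q v v' (k z) + polar Q v' (k z) • v := by
      have := eq_proj (Q := Q) v v' (k z)
      rw [h1.perp, zero_smul, add_zero] at this
      exact this
    have h3 : Has Q K v (proj Q v v' (k z)) := by
      refine (h1.add_smul_self (-(polar Q v' (k z)))).congr rfl ?_
      nth_rewrite 1 [h2]
      module
    obtain ⟨a, ha⟩ := hline _ (proj_mem_cp hvv _) (hfx _ (proj_mem_cp hvv _) h3)
    exact ⟨a, _, by rw [← ha]; exact h2⟩
  have hperp : ∀ w, w ∈ cm (y : Module.End F V) ↔ polar Q v w = 0 ∧ polar Q v' w = 0 ∧ polar Q z w = 0 := by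
    intro w
    rw [← D.perp_fx', mem_perp]
    constructor
    · intro h
      exact ⟨h v hvf, h v' hv'f, h z hzf⟩
    · rintro ⟨h1, h2, h3⟩ u hu
      obtain ⟨a, ha⟩ := hdec u hu
      rw [ha, polar_add_left, polar_add_left, polar_smul_left, polar_smul_left, polar_smul_left, h1, h2, h3]
      simp
  have hWeq : cm (y : Module.End F V) = cp Q v v' ⊓ LinearMap.ker (polarBilin Q z) := by
    ext w
    rw [hperp, Submodule.mem_inf, mem_cp, LinearMap.mem_ker, and_assoc]
    exact Iff.rfl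
  -- the projection
  have hcompl : IsCompl (cm (y : Module.End F V)) (fx (y : Module.End F V)) := (H951.isCompl_fx_cm D.iso.ne0 D.iso.pow).symm
  obtain ⟨π, hπ1, hπ2⟩ : ∃ π : V →ₗ[F] cm (y : Module.End F V), (∀ w : cm (y : Module.End F V), π (w : V) = w) ∧
      ∀ x ∈ fx (y : Module.End F V), π x = 0 :=
    ⟨Submodule.projectionOnto _ _ hcompl, fun w => Submodule.projectionOnto_apply_left hcompl w,
      fun x hx => Submodule.projectionOnto_apply_right hcompl ⟨x, hx⟩⟩
  have hkw : ∀ k ∈ K, ∀ w ∈ cm (y : Module.End F V), k w - polar Q v' (k w) • v ∈ cm (y : Module.End F V) := by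
    intro k hk w hw
    obtain ⟨w1, w2, w3⟩ := (hperp w).1 hw
    obtain ⟨a, b, hab⟩ := fixz k⁻¹ (K.inv_mem hk)
    have e1 : k ((k⁻¹ : V ≃ₗ[F] V) z) = z := k.apply_symm_apply z
    have e2 : polar Q z (k w) = 0 := by
      rw [← e1, polar_map (hK hk), hab, polar_add_left, polar_smul_left, polar_smul_left, w3, w1]
      simp
    have e3 : polar Q v (k w) = 0 := by
      have e4 : k v = v := hfix k hk
      rw [← e4, polar_map (hK hk), w1]
    refine (hperp _).2 ⟨?_, ?_, ?_⟩
    · rw [polar_sub_right, polar_smul_right, e3, hvv.polar_left, smul_zero, sub_zero]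
    · rw [polar_sub_right, polar_smul_right, hvv.pair', smul_eq_mul, mul_one, sub_self]
    · rw [polar_sub_right, polar_smul_right, e2, polar_comm Q z v, hzv, smul_zero, sub_zero]
  have hπk : ∀ k ∈ K, ∀ w ∈ cm (y : Module.End F V), (π (k w) : V) = k w - polar Q v' (k w) • v := by
    intro k hk w hw
    have h1 : k w = (k w - polar Q v' (k w) • v) + polar Q v' (k w) • v := by abel
    have h2 := hπ1 ⟨_, hkw k hk w hw⟩
    have h3 : π (k w) = π (k w - polar Q v' (k w) • v) := by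
      conv_lhs => rw [h1]
      rw [map_add, map_smul, hπ2 v hvf, smul_zero, add_zero]
    rw [h3, h2]
  have hW : ∀ g ∈ K, ∀ w : cm (y : Module.End F V), ∃ c : F, g (w : V) = (π (g (w : V)) : V) + c • v := by
    intro g hg w
    exact ⟨polar Q v' (g w), by rw [hπk g hg w w.2]; abel⟩
  obtain ⟨φ, hφ⟩ : ∃ φ : K →* (cm (y : Module.End F V) ≃ₗ[F] cm (y : Module.End F V)),
      ∀ (g : K) (w : cm (y : Module.End F V)), ((φ g w : cm (y : Module.End F V)) : V) =
        (g : V ≃ₗ[F] V) w - polar Q v' ((g : V ≃ₗ[F] V) w) • v :=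
    ⟨redW (hπ2 v hvf) hπ1 hfix hW, fun g w => by rw [redW_apply, hπk g g.2 w w.2]⟩
  have hrange : φ.range ≤ O (res Q (cm (y : Module.End F V))) := by
    rintro _ ⟨g, rfl⟩ w
    show Q ((φ g w : cm (y : Module.End F V)) : V) = Q (w : V)
    have e4 : (g : V ≃ₗ[F] V) v = v := hfix g g.2
    have e3 : polar Q v ((g : V ≃ₗ[F] V) w) = 0 := by
      nth_rewrite 1 [← e4]
      rw [polar_map (hK g.2)]
      exact ((hperp w).1 w.2).1
    rw [hφ, sub_eq_add_neg, Q_add, QuadraticMap.map_neg, QuadraticMap.map_smul, hv, polar_neg_right, polar_smul_right,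
      polar_comm Q _ v, e3, hK g.2]
    simp
  -- the kernel
  have hker : (Nat.card φ.ker).factorization p ≤ f := by
    obtain ⟨N, hN'⟩ : ∃ N : Subgroup (V ≃ₗ[F] V), N = φ.ker.map K.subtype := ⟨_, rfl⟩
    have hNK : N ≤ K := by
      rw [hN']
      rintro _ ⟨g, -, rfl⟩
      exact g.2
    have hNm : ∀ g ∈ N, ∀ w ∈ cm (y : Module.End F V), ∃ c : F, g w = w + c • v := by
      intro g hg w hw
      rw [hN'] at hg
      obtain ⟨g, hg, rfl⟩ := hg
      have h1 : φ g = 1 := hg
      have h2 := hφ g ⟨w, hw⟩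
      rw [h1] at h2
      have h3 : w = (g : V ≃ₗ[F] V) w - polar Q v' ((g : V ≃ₗ[F] V) w) • v := h2
      exact ⟨polar Q v' ((g : V ≃ₗ[F] V) w), by
        show (g : V ≃ₗ[F] V) w = _
        nth_rewrite 2 [h3]
        abel⟩
    have hcN : Nat.card φ.ker = Nat.card N := by
      rw [hN']
      exact (Subgroup.card_map_of_injective K.subtype_injective).symm
    have hNS : N ≤ StV Q v := hNK.trans hKS
    have hcr' := card_red D.nd hvv hNS
    obtain ⟨i', hi'⟩ := card_add_pow (F := F) D.prime D.card (AV Q N hvv)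
    rw [card_AV hvv, hi'] at hcr'
    have h1 : i' ≤ f := by
      have h2 : AV Q N hvv ≤ (Submodule.span F {z}).toAddSubgroup := by
        rintro x ⟨hx1, hx2⟩
        obtain ⟨a, ha⟩ := hline x hx2 (hfx x hx2 (hx1.mono hNK))
        show x ∈ Submodule.span F {z}
        rw [ha]
        exact Submodule.smul_mem _ _ (Submodule.mem_span_singleton_self z)
      have h3 : Nat.card (Submodule.span F {z}).toAddSubgroup = p ^ f := by
        show Nat.card (Submodule.span F {z}) = p ^ f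
        rw [Module.natCard_eq_pow_finrank (K := F), finrank_span_singleton hz0, pow_one, D.card]
      have h4 := AddSubgroup.card_dvd_of_le h2
      rw [hi', h3] at h4
      exact (Nat.pow_dvd_pow_iff_le_right D.prime.one_lt).1 h4
    have h2 : ¬ p ∣ Nat.card (redG hvv N) := by
      intro h
      obtain ⟨g, hg⟩ := exists_prime_orderOf_dvd_card' p h
      have h3 : g ^ 2 = 1 := by
        apply Subtype.ext
        obtain ⟨k, hk, hkc⟩ := (mem_redG hvv hNS).1 g.2
        obtain ⟨a, b, hab⟩ := fixz k (hNK hk)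
        have ha : a * a = 1 := by
          have e1 : Q (k z) = Q z := hK (hNK hk) z
          rw [hab, Q_add, QuadraticMap.map_smul, QuadraticMap.map_smul, hv, polar_smul_left, polar_smul_right,
            polar_comm Q z v, hzv] at e1
          simp only [smul_eq_mul, mul_zero, add_zero] at e1
          exact mul_right_cancel₀ hQz (by rw [one_mul]; exact e1)
        have e1 : ((g : cp Q v v' ≃ₗ[F] cp Q v v') ⟨z, hzC⟩) = a • (⟨z, hzC⟩ : cp Q v v') := by
          apply Subtype.ext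
          rw [hkc]
          show proj Q v v' (k z) = a • z
          rw [hab, proj_add_smul hvv, proj_of_mem ((cp Q v v').smul_mem _ hzC)]
        have e2 : ∀ w : cp Q v v', (w : V) ∈ cm (y : Module.End F V) → (g : cp Q v v' ≃ₗ[F] cp Q v v') w = w := by
          intro w hw
          apply Subtype.ext
          obtain ⟨c, hc⟩ := hNm k hk w hw
          rw [hkc, hc, proj_add_smul hvv, proj_of_mem w.2]
        apply LinearEquiv.ext
        intro c
        have hzz : polar Q z z ≠ 0 := by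
          rw [polar_self, two_nsmul, ← two_mul]
          exact mul_ne_zero D.two_ne hQz
        obtain ⟨α, hα⟩ : ∃ α : F, α = polar Q z c * (polar Q z z)⁻¹ := ⟨_, rfl⟩
        obtain ⟨w, hw⟩ : ∃ w : cp Q v v', w = c - α • (⟨z, hzC⟩ : cp Q v v') := ⟨_, rfl⟩
        have hwm : (w : V) ∈ cm (y : Module.End F V) := by
          refine (hperp _).2 ⟨(mem_cp.1 w.2).1, (mem_cp.1 w.2).2, ?_⟩
          have hw' : (w : V) = c - α • z := by rw [hw]; rfl
          rw [hw', polar_sub_right, polar_smul_right, hα, smul_eq_mul, mul_assoc, inv_mul_cancel₀ hzz, mul_one, sub_self]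
        have hcw : c = w + α • (⟨z, hzC⟩ : cp Q v v') := by rw [hw]; abel
        show (g : cp Q v v' ≃ₗ[F] cp Q v v') ((g : cp Q v v' ≃ₗ[F] cp Q v v') c) = c
        rw [hcw, map_add, map_smul, e1, e2 w hwm, map_add, map_smul, map_smul, e1, e2 w hwm, smul_smul a a, ha, one_smul]
      have h4 := orderOf_dvd_of_pow_eq_one h3
      rw [hg] at h4
      exact D.podd ((Nat.prime_dvd_prime_iff_eq D.prime Nat.prime_two).1 h4)
    rw [hcN, hcr', Nat.factorization_mul (pow_ne_zero _ D.prime.ne_zero) Nat.card_pos.ne', Finsupp.add_apply,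
      Nat.Prime.factorization_pow D.prime, Finsupp.single_eq_same, Nat.factorization_eq_zero_of_not_dvd h2]
    omega
  have hrng : f < (Nat.card φ.range).factorization p := by
    have h1 := factorization_range φ p
    have := D.lo
    omega
  obtain ⟨e, heW, he0, hQe⟩ := LieClassical.OrthFinite.exists_sing_mem (Q := Q) (cm (y : Module.End F V))
    (by rw [D.cm4]; norm_num)
  have hrd : r ∣ Nat.card φ.range := by
    have h1 : orderOf (φ ⟨y, D.mem⟩) = r := by
      refine orderOf_eq_prime ?_ ?_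
      · rw [← map_pow]
        have : (⟨y, D.mem⟩ : K) ^ r = 1 := Subtype.ext D.pow
        rw [this, map_one]
      · intro h1
        have h2 := hφ ⟨y, D.mem⟩ ⟨e, heW⟩
        rw [h1] at h2
        have h3 : e = y e - polar Q v' (y e) • v := h2
        have h4 : y e ∈ cm (y : Module.End F V) := H951.inv_cm e heW
        rw [((hperp _).1 h4).2.1, zero_smul, sub_zero] at h3
        apply he0
        have h5 : e ∈ fx (y : Module.End F V) ⊓ cm (y : Module.End F V) := ⟨mem_fx.2 h3.symm, heW⟩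
        rw [(H951.isCompl_fx_cm D.iso.ne0 D.iso.pow).inf_eq_bot] at h5
        exact (Submodule.mem_bot F).1 h5
    rw [← h1]
    exact Subgroup.orderOf_dvd_natCard _ ⟨_, rfl⟩
  have hE := D.boxes.four D.nd_cm D.cm4 D.minus hrange D.pp hrd hrng
  refine no_hex_v' hG D.dim D.two_ne (by rw [D.card]; have := D.h31; omega) hH hK hc hdis hvv hzC hQz
    (fun k hk => ⟨1, by rw [hfix k hk, one_smul]⟩) fixz hWeq heW hQe he0 ?_ ⟨1, one_ne_zero, by rw [one_smul]; exact hzK⟩
  intro e he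
  obtain ⟨g, hg⟩ := hE he
  refine ⟨g, g.2, fun w => ⟨polar Q v' ((g : V ≃ₗ[F] V) w), ?_⟩⟩
  rw [← hg, hφ]
  abel

end Cfsg.Agent.H830.Om7

namespace Cfsg.Agent.H430.Om7

open Module QuadraticMap Cfsg Cfsg.Agent.LieClassical.OrthCore Cfsg.Agent.LieClassical.OrthTrans
  Cfsg.Agent.H884.El Cfsg.Agent.H955 Cfsg.Agent.H954.TSing Cfsg.Agent.H830.Hex
open Cfsg.Agent.H951 (fx cm Inv mem_fx mem_cm)

variable {F : Type} [Field F] [Fintype F] {V : Type} [AddCommGroup V] [Module F V] [FiniteDimensional F V]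
  {Q : QuadraticForm F V} {K : Subgroup (V ≃ₗ[F] V)} {p f r a : ℕ} {y : V ≃ₗ[F] V}

/-- **K3** : the factor fixes a singular point -/
theorem KD.sing (D : KD Q K p f r a y) (hG : Good Q) {u : V} (hu0 : u ≠ 0) (hu : Q u = 0) (hK : ∀ g ∈ K, ∃ c : F, g u = c • u)
    {H : Subgroup (V ≃ₗ[F] V)} (hH : H ≤ O Q) (hc : Nat.card F ^ 6 ∣ Nat.card H)
    (hdis : ∀ t ∈ E Q, ∀ h ∈ H, t * h * t⁻¹ ∈ K → h = 1) : False := by
  have hfin : Finite V := Module.finite_of_finite F
  have hf1 := D.pos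
  -- the character
  obtain ⟨χ, hχ⟩ : ∃ χ : K →* Fˣ, ∀ g : K, (g : V ≃ₗ[F] V) u = (χ g : F) • u := by
    choose c hc using fun g : K => hK g g.2
    have h1 : ∀ {x y : F}, x • u = y • u → x = y := fun h => smul_left_injective F hu0 h
    let χ₀ : K →* F :=
      { toFun := c
        map_one' := h1 (by rw [← hc, one_smul]; rfl)
        map_mul' := fun g h => h1 (by
          rw [← hc, mul_comm, ← smul_smul, ← hc, ← map_smul, ← hc]
          rfl) }
    refine ⟨χ₀.toHomUnits, fun g => hc g⟩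
  obtain ⟨K', hK'⟩ : ∃ K' : Subgroup (V ≃ₗ[F] V), K' = χ.ker.map K.subtype := ⟨_, rfl⟩
  have hle : K' ≤ K := by
    rw [hK']
    rintro _ ⟨g, -, rfl⟩
    exact g.2
  have hfix : ∀ g ∈ K', g u = u := by
    intro g hg
    rw [hK'] at hg
    obtain ⟨g, hg, rfl⟩ := hg
    have h1 : χ g = 1 := hg
    have h2 := hχ g
    rw [h1, Units.val_one, one_smul] at h2
    exact h2
  have hcK : Nat.card K' = Nat.card χ.ker := by
    rw [hK']
    exact Subgroup.card_map_of_injective K.subtype_injective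
  have hcard := card_ker_mul χ
  rw [← hcK] at hcard
  have hrd : Nat.card χ.range ∣ p ^ f - 1 := by
    have h1 := Subgroup.card_subgroup_dvd_card χ.range
    rw [Nat.card_units, D.card] at h1
    exact h1
  have hq1 : 1 ≤ p ^ f := Nat.one_le_pow _ _ D.prime.pos
  have hp1 : ¬ p ∣ Nat.card χ.range := by
    intro h
    have h1 := h.trans hrd
    have h2 : p ∣ p ^ f := dvd_pow_self p (by omega)
    have h3 : p ∣ 1 := by
      have := Nat.dvd_sub h2 h1
      rwa [Nat.sub_sub_self hq1] at this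
    exact D.prime.one_lt.ne' (Nat.dvd_one.1 h3)
  have hr1 : Nat.Coprime (r ^ a) (Nat.card χ.range) := by
    apply Nat.Coprime.pow_left
    rw [D.pp.prime.coprime_iff_not_dvd]
    intro h
    have h1 := (D.pp.dvd_iff D.prime.one_le f).1 (h.trans hrd)
    have := Nat.le_of_dvd D.pos h1
    omega
  have hfac : (Nat.card K).factorization p = (Nat.card K').factorization p := by
    rw [← hcard, Nat.factorization_mul Nat.card_pos.ne' Nat.card_pos.ne', Finsupp.add_apply,
      Nat.factorization_eq_zero_of_not_dvd hp1, add_zero]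
  have hyu : y ∈ K' := by
    rw [hK']
    refine ⟨⟨y, D.mem⟩, ?_, rfl⟩
    have h1 : (χ ⟨y, D.mem⟩) ^ r = 1 := by
      rw [← map_pow]
      have : (⟨y, D.mem⟩ : K) ^ r = 1 := Subtype.ext D.pow
      rw [this, map_one]
    have h2 := orderOf_dvd_of_pow_eq_one h1
    rcases (Nat.dvd_prime D.pp.prime).1 h2 with h3 | h3
    · exact orderOf_eq_one_iff.1 h3
    · exfalso
      have h4 : orderOf (χ ⟨y, D.mem⟩) ∣ Nat.card Fˣ := orderOf_dvd_natCard _
      rw [h3, Nat.card_units, D.card] at h4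
      have h5 := (D.pp.dvd_iff D.prime.one_le f).1 h4
      have := Nat.le_of_dvd D.pos h5
      omega
  have D' : KD Q K' p f r a y :=
    { boxes := D.boxes
      nd := D.nd
      dim := D.dim
      prime := D.prime
      podd := D.podd
      pos := D.pos
      card := D.card
      h31 := D.h31
      le := hle.trans D.le
      pp := D.pp
      big := D.big
      dvd := by
        have h1 := D.dvd
        rw [← hcard] at h1
        exact hr1.dvd_of_dvd_mul_right h1
      lo := by rw [← hfac]; exact D.lo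
      hi := by rw [← hfac]; exact D.hi
      ord := (Nat.mul_dvd_mul_left 2 (Subgroup.card_dvd_of_le hle)).trans D.ord
      mem := hyu
      pow := D.pow
      ne := D.ne }
  exact H830.Om7.sing_fix D' hG hu0 hu hfix hH hc (fun t ht h hh hm => hdis t ht h hh (hle hm))

end Cfsg.Agent.H430.Om7
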